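import Cfsg.Agent.FT.TypeP

/-!
Pairs of maximal subgroups of type `P` (Peterfalvi (8.8)).
-/

set_option autoImplicit false

namespace Cfsg.Agent.FT

open Cfsg
open Cfsg.Agent.BGSigma (Partners)

universe u

variable {G : Type u} [Group G] [Finite G]

/-- Two maximal subgroups of type `P` sharing `W = W₁ W₂`. -/
structure Pair (S T W₁ W₂ U V : Subgroup G) : Prop where
  coatomS : IsCoatom S
  coatomT : IsCoatom T
  typeS : IsTypePWith S W₁ U W₂
  typeT : IsTypePWith T W₂ V W₁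
  inf_eq : S ⊓ T = W₁ ⊔ W₂
  someII : IsOfTypeII S ∨ IsOfTypeII T
  casesS : IsOfTypeII S ∨ IsOfTypeIII S ∨ IsOfTypeIV S ∨ IsOfTypeV S
  casesT : IsOfTypeII T ∨ IsOfTypeIII T ∨ IsOfTypeIV T ∨ IsOfTypeV T

omit [Finite G] in
theorem Pair.symm {S T W₁ W₂ U V : Subgroup G} (d : Pair S T W₁ W₂ U V) :
    Pair T S W₂ W₁ V U where
  coatomS := d.coatomT
  coatomT := d.coatomS
  typeS := d.typeT
  typeT := d.typeS
  inf_eq := by rw [inf_comm, d.inf_eq, sup_comm]
  someII := d.someII.symm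
  casesS := d.casesT
  casesT := d.casesS

variable {S T W₁ W₂ U V : Subgroup G} (hG : IsMinSimpleOddOrder G) (d : Pair S T W₁ W₂ U V)
include hG d

theorem Pair.W₂_eq : W₂ = sigmaCore S ⊓ Subgroup.centralizer (W₁ : Set G) :=
  FT.W₂_eq hG d.coatomS d.typeS

theorem Pair.W₁_eq : W₁ = sigmaCore T ⊓ Subgroup.centralizer (W₂ : Set G) :=
  FT.W₂_eq hG d.coatomT d.typeT

/-- `S` with `W₁` and `T` with `W₂` are partners. -/
theorem Pair.partners : Partners S W₁ T :=
  BGSigma.partners_of hG d.coatomS (kappa_hall hG d.coatomS d.typeS) d.typeS.W₁_ne d.coatomT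
    (by rw [← d.W₂_eq hG, ← d.W₁_eq hG])

theorem Pair.coprime : (Nat.card W₁).Coprime (Nat.card W₂) := by
  rw [d.W₂_eq hG]
  exact (d.partners hG).coprime hG

/-- `S` and `T` are not conjugate. -/
theorem Pair.not_conj (g : G) : T ≠ S.map (MulAut.conj g).toMonoidHom := by
  intro he
  obtain ⟨r, hr, hrd⟩ := Nat.exists_prime_and_dvd (n := Nat.card W₁)
    fun h1 => d.typeS.W₁_ne (Subgroup.eq_bot_of_card_eq W₁ h1)
  have h1 := (d.partners hG).sigmaL r hr hrd
  rw [he] at h1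
  exact ((kappa_hall hG d.coatomS d.typeS).2.1 r hr hrd).2.2.1 (BGSigma.sigma_conj_iff.mp h1)

/-- A maximal subgroup with `κ ≠ ∅` is conjugate to `S` or to `T`. -/
theorem Pair.classes {M : Subgroup G} (hM : IsCoatom M) (hκ : (kappa M).Nonempty) :
    ∃ g : G, M = S.map (MulAut.conj g).toMonoidHom ∨ M = T.map (MulAut.conj g).toMonoidHom :=
  (d.partners hG).two_classes hG hM hκ

/-- A maximal subgroup has `κ = ∅` or is conjugate to `S` or to `T`. -/
theorem Pair.kappa_empty_or_conj {M : Subgroup G} (hM : IsCoatom M) :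
    kappa M = ∅ ∨
      ∃ g : G, M = S.map (MulAut.conj g).toMonoidHom ∨ M = T.map (MulAut.conj g).toMonoidHom :=
  (kappa M).eq_empty_or_nonempty.imp id (d.classes hG hM)

omit d in
/-- Peterfalvi (8.8): if some maximal subgroup has `κ ≠ ∅` there is a pair. -/
theorem exists_pair (hex : ∃ M : Subgroup G, IsCoatom M ∧ (kappa M).Nonempty) :
    ∃ S T W₁ W₂ U V : Subgroup G, Pair S T W₁ W₂ U V := by
  obtain ⟨M, hM, hκ⟩ := hex
  obtain ⟨K, U, hKU⟩ := exists_decomp hG hM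
  have hK : K ≠ ⊥ := fun h0 => hκ.ne_empty ((BGSummary.eq_bot_iff_kappa hKU.hall).mp h0)
  have h := summary hG
  obtain ⟨L, p⟩ := BGSigma.exists_partners hG hM hKU.hall hK
  obtain ⟨UL, hL⟩ := (h.decomp L p.hL _ p.cycY p.hallY).1
  obtain ⟨X, hX⟩ := exists_typePWith hG hM hKU hK
  obtain ⟨Y, hY⟩ := exists_typePWith hG p.hL hL p.ne_bot'
  rw [← p.eq] at hY
  refine ⟨M, L, K, _, X, Y, hM, p.hL, hX, hY,
    (h.star_inf M hM K U hKU hK L p.hL p.eq p.hallY).1, ?_,
    BGSummary.typeP_cases h hM hKU hK, BGSummary.typeP_cases h p.hL hL p.ne_bot'⟩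
  rcases (BGSigma.classes_stmt hG hM hKU p).1 with hU | hU
  · exact Or.inl ((h.typeII_iff M hM K U hKU).mpr ⟨hK, hU⟩)
  · exact Or.inr ((h.typeII_iff L p.hL _ UL hL).mpr ⟨p.ne_bot', hU UL hL⟩)

omit d in
/-- The dichotomy behind Theorem I. -/
theorem kappa_empty_or_pair :
    (∀ M : Subgroup G, IsCoatom M → kappa M = ∅) ∨
      ∃ S T W₁ W₂ U V : Subgroup G, Pair S T W₁ W₂ U V := by
  by_cases hex : ∃ M : Subgroup G, IsCoatom M ∧ (kappa M).Nonempty
  · exact Or.inr (exists_pair hG hex)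
  · refine Or.inl fun M hM => Set.not_nonempty_iff_eq_empty.mp fun hne => hex ⟨M, hM, hne⟩

end Cfsg.Agent.FT
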