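import Cfsg.Agent.FT.Pair
import Mathlib.Algebra.BigOperators.Group.Finset.Basic

/-!
The partition of the non-identity elements (Peterfalvi (8.17)).
-/

set_option autoImplicit false
set_option linter.style.haveILetI false

namespace Cfsg.Agent.FT

open Cfsg

universe u

variable {G : Type u} [Group G]

/-- The union of the conjugates of the cosets `x R(x)`, `x ≠ 1` in `M_σ`. -/
abbrev tilde (M : Subgroup G) : Set G := tildeOf M ((sigmaCore M : Set G) \ {1})

/-- The union of the conjugates of `W - (W₁ ∪ W₂)`. -/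
def zset (W₁ W₂ : Subgroup G) : Set G :=
  {a | ∃ g : G, ∃ z ∈ ((W₁ ⊔ W₂ : Subgroup G) : Set G) \ ((W₁ : Set G) ∪ ↑W₂), a = g * z * g⁻¹}

/-- A system of representatives of the conjugacy classes of maximal subgroups. -/
structure IsReps (R : Finset (Subgroup G)) : Prop where
  coatom : ∀ M ∈ R, IsCoatom M
  cover : ∀ M : Subgroup G, IsCoatom M → ∃ N ∈ R, ∃ g : G, M = N.map (MulAut.conj g).toMonoidHom
  distinct : ∀ M ∈ R, ∀ N ∈ R, M ≠ N → ∀ g : G, N ≠ M.map (MulAut.conj g).toMonoidHom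

variable [Finite G]

/-- Pairwise non-conjugate maximal subgroups extend to a system of representatives. -/
theorem exists_reps (s : Finset (Subgroup G)) (hs : ∀ M ∈ s, IsCoatom M)
    (hd : ∀ M ∈ s, ∀ N ∈ s, M ≠ N → ∀ g : G, N ≠ M.map (MulAut.conj g).toMonoidHom) :
    ∃ R : Finset (Subgroup G), s ⊆ R ∧ IsReps R := by
  classical
  haveI := Fintype.ofFinite (Subgroup G)
  obtain ⟨R, hsR, hmax⟩ := Finite.exists_le_maximal
    (p := fun R : Finset (Subgroup G) => (∀ M ∈ R, IsCoatom M) ∧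
      ∀ M ∈ R, ∀ N ∈ R, M ≠ N → ∀ g : G, N ≠ M.map (MulAut.conj g).toMonoidHom) (a := s) ⟨hs, hd⟩
  refine ⟨R, hsR, hmax.prop.1, fun M hM => ?_, hmax.prop.2⟩
  by_contra hno
  push Not at hno
  have hMR : M ∉ R := fun hMR => hno M hMR 1 (BGSigma.map_conj_one M).symm
  refine hMR (hmax.le_of_ge (y := insert M R) ⟨fun N hN => ?_, fun A hA B hB hAB g he => ?_⟩
    (Finset.subset_insert M R) (Finset.mem_insert_self M R))
  · rcases Finset.mem_insert.mp hN with rfl | hN
    · exact hM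
    · exact hmax.prop.1 N hN
  · rcases Finset.mem_insert.mp hA with hA' | hA' <;> rcases Finset.mem_insert.mp hB with hB' | hB'
    · exact hAB (hA'.trans hB'.symm)
    · subst hA'
      refine hno B hB' g⁻¹ ?_
      rw [he, BGSigma.map_conj_comp, inv_mul_cancel, BGSigma.map_conj_one]
    · subst hB'
      exact hno A hA' g he
    · exact hmax.prop.2 A hA' B hB' hAB g he

theorem exists_isReps : ∃ R : Finset (Subgroup G), IsReps R := by
  obtain ⟨R, -, hR⟩ := exists_reps (G := G) ∅ (by simp) (by simp)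
  exact ⟨R, hR⟩

variable (hG : IsMinSimpleOddOrder G)
include hG

/-- `M̃` is a class invariant. -/
theorem tilde_map_conj {M : Subgroup G} (hM : IsCoatom M) (g : G) :
    tilde (M.map (MulAut.conj g).toMonoidHom) = tilde M := by
  have key : ∀ {N : Subgroup G}, IsCoatom N → ∀ c : G,
      tilde N ⊆ tilde (N.map (MulAut.conj c).toMonoidHom) := by
    rintro N hN c _ ⟨a, ⟨ha, ha1⟩, r, hr, y, rfl⟩
    refine ⟨c * a * c⁻¹, ⟨?_, fun h0 => ha1 (conj_eq_one_iff.mp h0)⟩, c * r * c⁻¹,
      BGSigma.supportR_map_conj hG hN ha ha1 c hr, y * c⁻¹, by group⟩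
    rw [BGSigma.sigmaCore_map_conj hG hN]
    exact ⟨a, ha, rfl⟩
  refine Set.Subset.antisymm ?_ (key hM g)
  have h1 := key (BGSigma.isCoatom_map_conj hM g) g⁻¹
  rwa [BGSigma.map_conj_comp, inv_mul_cancel, BGSigma.map_conj_one] at h1

/-- `M̃` in terms of `A₁(M)`. -/
theorem tilde_eq {M : Subgroup G} (hM : IsCoatom M) : tilde M = tildeOf M (typeA1 M) := by
  rw [typeA1, BGSummary.typeCore_eq (summary hG) hM]

theorem one_not_mem_tilde {M : Subgroup G} (hM : IsCoatom M) : (1 : G) ∉ tilde M := by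
  rintro ⟨a, ⟨ha, ha1⟩, r, hr, y, he⟩
  obtain ⟨-, hr'⟩ := BGSigma.supportR_mem hG hM ha ha1 hr
  have har : a * r = 1 := conj_eq_one_iff.mp he.symm
  obtain ⟨q, hq, hqd⟩ := Nat.exists_prime_and_dvd (fun h0 => ha1 (orderOf_eq_one_iff.mp h0))
  refine hr' q hq ?_
    (BGSigma.isPiSub_sigmaCore M q hq (hqd.trans (Subgroup.orderOf_dvd_natCard _ ha)))
  rw [show r = a⁻¹ from eq_inv_of_mul_eq_one_right har, orderOf_inv]
  exact hqd

theorem tilde_disjoint {M N : Subgroup G} (hM : IsCoatom M) (hN : IsCoatom N)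
    (hne : ∀ g : G, N ≠ M.map (MulAut.conj g).toMonoidHom) : Disjoint (tilde M) (tilde N) :=
  Set.disjoint_iff_inter_eq_empty.mpr (BGSigma.tilde_disjoint hG hM hN hne)

theorem ncard_tilde {M : Subgroup G} (hM : IsCoatom M) :
    (tilde M).ncard = (Nat.card (sigmaCore M) - 1) * M.index :=
  BGSigma.card_tilde_stmt hG M hM

section Pair

variable {S T W₁ W₂ U V : Subgroup G} (d : Pair S T W₁ W₂ U V)
include d

omit hG [Finite G] d in
theorem one_not_mem_zset : (1 : G) ∉ zset W₁ W₂ := by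
  rintro ⟨g, z, ⟨-, hz⟩, he⟩
  exact hz (Or.inl (conj_eq_one_iff.mp he.symm ▸ one_mem W₁))

theorem Pair.zset_eq :
    zset W₁ W₂ = {a | ∃ g : G, ∃ z ∈ BGSigma.zhat S W₁, a = g * z * g⁻¹} := by
  rw [zset, d.W₂_eq hG]

theorem Pair.zset_disjoint {M : Subgroup G} (hM : IsCoatom M) :
    Disjoint (tilde M) (zset W₁ W₂) := by
  rw [Set.disjoint_left]
  intro a ha hz
  rw [d.zset_eq hG] at hz
  obtain ⟨g, z, hz, rfl⟩ := hz
  refine (d.partners hG).not_mem_tilde hG hM hz ?_
  have h1 := BGSigma.mem_tilde_conj g⁻¹ ha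
  rwa [show g⁻¹ * (g * z * g⁻¹) * g⁻¹⁻¹ = z by group] at h1

/-- The covering half of (8.17). -/
theorem Pair.cover {g : G} (hg : g ≠ 1) :
    (∃ M : Subgroup G, IsCoatom M ∧ g ∈ tilde M) ∨ g ∈ zset W₁ W₂ := by
  obtain ⟨U₀, hU₀⟩ := exists_decomp_of_typeP hG d.coatomS d.typeS
  rw [d.zset_eq hG]
  exact ((BGSigma.partition_stmt hG).2.2 S W₁ U₀ d.coatomS hU₀ d.typeS.W₁_ne).1 g hg

/-- The number of elements conjugate into `W - (W₁ ∪ W₂)`. -/
theorem Pair.ncard_zset :
    Nat.card W₁ * Nat.card W₂ * (zset W₁ W₂).ncard =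
      (Nat.card W₁ - 1) * (Nat.card W₂ - 1) * Nat.card G := by
  have h1 := (d.partners hG).card_saturation hG
  obtain ⟨h2, h3⟩ := (d.partners hG).one_lt hG
  rw [← d.W₂_eq hG] at h3
  rw [← d.zset_eq hG, ← d.W₂_eq hG] at h1
  rw [h1]
  congr 1
  obtain ⟨a, ha⟩ : ∃ a, Nat.card W₁ = a + 2 := ⟨Nat.card W₁ - 2, by omega⟩
  obtain ⟨b, hb⟩ : ∃ b, Nat.card W₂ = b + 2 := ⟨Nat.card W₂ - 2, by omega⟩
  rw [ha, hb, show a + 2 - 1 = a + 1 by omega, show b + 2 - 1 = b + 1 by omega,
    show (a + 2) * (b + 2) = (a + 1) * (b + 1) + a + b + 3 by ring]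
  have hc : 0 < (a + 1) * (b + 1) := by positivity
  generalize (a + 1) * (b + 1) = c at hc ⊢
  omega

/-- Representatives containing `S` and `T`; the others have `κ = ∅`. -/
theorem Pair.exists_reps :
    ∃ R : Finset (Subgroup G), IsReps R ∧ S ∈ R ∧ T ∈ R ∧
      ∀ M ∈ R, M ≠ S → M ≠ T → kappa M = ∅ := by
  classical
  obtain ⟨R, hsR, hR⟩ := FT.exists_reps {S, T}
    (fun M hM => by
      rcases Finset.mem_insert.mp hM with rfl | hM
      · exact d.coatomS
      · exact (Finset.mem_singleton.mp hM) ▸ d.coatomT)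
    (fun M hM N hN hne => by
      rcases Finset.mem_insert.mp hM with hM | hM <;> rcases Finset.mem_insert.mp hN with hN | hN
      · exact absurd (hM.trans hN.symm) hne
      · exact hM ▸ Finset.mem_singleton.mp hN ▸ d.not_conj hG
      · exact hN ▸ Finset.mem_singleton.mp hM ▸ d.symm.not_conj hG
      · exact absurd ((Finset.mem_singleton.mp hM).trans (Finset.mem_singleton.mp hN).symm) hne)
  have hS : S ∈ R := hsR (by simp)
  have hT : T ∈ R := hsR (by simp)
  refine ⟨R, hR, hS, hT, fun M hM hMS hMT => ?_⟩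
  rcases d.kappa_empty_or_conj hG (hR.coatom M hM) with h | ⟨g, h | h⟩
  · exact h
  · exact absurd h (hR.distinct S hS M hM hMS.symm g)
  · exact absurd h (hR.distinct T hT M hM hMT.symm g)

end Pair

section Sum

variable [Fintype G] {R : Finset (Subgroup G)} (hR : IsReps R)
  {A : Type*} [AddCommMonoid A] (f : G → A)
include hR

open scoped Classical in
/-- Summation over the pieces of a partition of the non-identity elements. -/
theorem sum_partition {Z : Set G} (h1 : (1 : G) ∉ Z) (hdis : ∀ M ∈ R, Disjoint (tilde M) Z)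
    (hcov : ∀ g : G, g ≠ 1 → (∃ M : Subgroup G, IsCoatom M ∧ g ∈ tilde M) ∨ g ∈ Z) :
    ∑ g ∈ Finset.univ.filter (fun g : G => g ≠ 1), f g =
      (∑ M ∈ R, ∑ g ∈ Finset.univ.filter (· ∈ tilde M), f g) +
        ∑ g ∈ Finset.univ.filter (· ∈ Z), f g := by
  rw [← Finset.sum_biUnion, ← Finset.sum_union]
  · refine Finset.sum_congr (Finset.ext fun g => ?_) fun _ _ => rfl
    simp only [Finset.mem_union, Finset.mem_biUnion, Finset.mem_filter, Finset.mem_univ, true_and]
    refine ⟨fun hg => ?_, ?_⟩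
    · refine (hcov g hg).imp ?_ id
      rintro ⟨M, hM, hgM⟩
      obtain ⟨N, hN, c, rfl⟩ := hR.cover M hM
      exact ⟨N, hN, by rwa [tilde_map_conj hG (hR.coatom N hN) c] at hgM⟩
    · rintro (⟨M, hM, hgM⟩ | hgZ) rfl
      · exact one_not_mem_tilde hG (hR.coatom M hM) hgM
      · exact h1 hgZ
  · simp only [Finset.disjoint_left, Finset.mem_biUnion, Finset.mem_filter, Finset.mem_univ,
      true_and]
    rintro g ⟨M, hM, hgM⟩
    exact Set.disjoint_left.mp (hdis M hM) hgM
  · intro M hM N hN hMN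
    simp only [Function.onFun, Finset.disjoint_left, Finset.mem_filter, Finset.mem_univ, true_and]
    exact fun g hg => Set.disjoint_left.mp
      (tilde_disjoint hG (hR.coatom M hM) (hR.coatom N hN) (hR.distinct M hM N hN hMN)) hg

open scoped Classical in
/-- Peterfalvi (8.17), with a pair. -/
theorem Pair.sum_eq {S T W₁ W₂ U V : Subgroup G} (d : Pair S T W₁ W₂ U V) :
    ∑ g ∈ Finset.univ.filter (fun g : G => g ≠ 1), f g =
      (∑ M ∈ R, ∑ g ∈ Finset.univ.filter (· ∈ tilde M), f g) +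
        ∑ g ∈ Finset.univ.filter (· ∈ zset W₁ W₂), f g :=
  sum_partition hG hR f one_not_mem_zset (fun M hM => d.zset_disjoint hG (hR.coatom M hM))
    fun _ hg => d.cover hG hg

open scoped Classical in
/-- Peterfalvi (8.17), all maximal subgroups with `κ = ∅`. -/
theorem sum_eq_of_kappa_empty (hall : ∀ M : Subgroup G, IsCoatom M → kappa M = ∅) :
    ∑ g ∈ Finset.univ.filter (fun g : G => g ≠ 1), f g =
      ∑ M ∈ R, ∑ g ∈ Finset.univ.filter (· ∈ tilde M), f g := by
  rw [sum_partition hG hR f (Z := ∅) (Set.notMem_empty 1) (fun M _ => disjoint_bot_right)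
    fun g hg => Or.inl ((BGSigma.partition_stmt hG).2.1 hall g hg)]
  simp

end Sum

section Count

variable {R : Finset (Subgroup G)} (hR : IsReps R)
include hR

/-- The class equation of (8.17), with a pair. -/
theorem Pair.card_eq {S T W₁ W₂ U V : Subgroup G} (d : Pair S T W₁ W₂ U V) :
    Nat.card G = 1 + (∑ M ∈ R, (Nat.card (sigmaCore M) - 1) * M.index) + (zset W₁ W₂).ncard := by
  classical
  haveI := Fintype.ofFinite G
  have h := Pair.sum_eq hG hR (fun _ => (1 : ℕ)) d
  simp only [Finset.sum_const, smul_eq_mul, mul_one] at h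
  rw [add_assoc, ← Finset.sum_congr rfl fun M hM => ncard_tilde hG (hR.coatom M hM),
    Nat.card_eq_fintype_card, ← Finset.card_univ,
    ← Finset.card_filter_add_card_filter_not (fun g : G => g = 1)]
  simp only [Set.ncard_eq_toFinset_card', ← Set.filter_mem_univ_eq_toFinset] at *
  rw [h, Finset.card_eq_one.mpr ⟨1, by ext g; simp⟩]

/-- The class equation of (8.17), all maximal subgroups with `κ = ∅`. -/
theorem card_eq_of_kappa_empty (hall : ∀ M : Subgroup G, IsCoatom M → kappa M = ∅) :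
    Nat.card G = 1 + ∑ M ∈ R, (Nat.card (sigmaCore M) - 1) * M.index := by
  classical
  haveI := Fintype.ofFinite G
  have h := sum_eq_of_kappa_empty hG hR (fun _ => (1 : ℕ)) hall
  simp only [Finset.sum_const, smul_eq_mul, mul_one] at h
  rw [← Finset.sum_congr rfl fun M hM => ncard_tilde hG (hR.coatom M hM),
    Nat.card_eq_fintype_card, ← Finset.card_univ,
    ← Finset.card_filter_add_card_filter_not (fun g : G => g = 1)]
  simp only [Set.ncard_eq_toFinset_card', ← Set.filter_mem_univ_eq_toFinset] at *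
  rw [h, Finset.card_eq_one.mpr ⟨1, by ext g; simp⟩]

end Count

end Cfsg.Agent.FT
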