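import Cfsg.Agent.BGSummary.LocalInst
import Cfsg.Agent.BGSummary.OfLocal
import Cfsg.Agent.BGSummary.Types
import Cfsg.Agent.BGSigma.TildeCover

/-!
Subgroups of type `P` seen from the standard factorisation: `W₁` is a `κ`-Hall subgroup and `W₂`
is its centralizer in `M_σ`.
-/

set_option autoImplicit false
set_option linter.style.haveILetI false

namespace Cfsg.Agent.FT

open Cfsg
open Cfsg.Agent.BGSummary (SummaryInputs TypeInputs localStructure)

universe u

variable {G : Type u} [Group G] [Finite G] (hG : IsMinSimpleOddOrder G)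
include hG

theorem summary : SummaryInputs G := SummaryInputs.of_local hG (localStructure hG)

theorem typeInputs : TypeInputs G := TypeInputs.of_local hG (localStructure hG)

theorem exists_decomp {M : Subgroup G} (hM : IsCoatom M) :
    ∃ K U : Subgroup G, IsSigmaDecomposition M K U :=
  BGSummary.exists_decomp (summary hG) hM

/-- In a standard factorisation with `K ≠ 1`, `K` is a complement of `M'`. -/
theorem complIn_derived {M K U : Subgroup G} (hM : IsCoatom M)
    (hKU : IsSigmaDecomposition M K U) (hK : K ≠ ⊥) : IsComplIn ⁅M, M⁆ K M := by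
  have hd := ((typeInputs hG).derived M hM K U hKU hK).1
  refine BGSummary.TypeCore.complIn_of_sup (Subgroup.commutator_le_self M) hKU.hall.1
    (hKU.hall.1.trans (BGSummary.commutator_normal hG (typeInputs hG))) ?_ ?_
  · rw [hd, inf_comm]
    exact BGSummary.TypeCore.inf_sup_eq_bot hKU
  · rw [hd, sup_assoc, sup_comm (sigmaCore M) K]
    exact (BGSummary.TypeCore.sup_eq hKU.compl).ge

/-- A maximal subgroup with `κ ≠ ∅` has type `P` data built on a standard factorisation. -/
theorem exists_typePWith {M K U : Subgroup G} (hM : IsCoatom M)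
    (hKU : IsSigmaDecomposition M K U) (hK : K ≠ ⊥) :
    ∃ V : Subgroup G,
      IsTypePWith M K V (sigmaCore M ⊓ Subgroup.centralizer (K : Set G)) := by
  have h := typeInputs hG
  have hd := (h.derived M hM K U hKU hK).1
  by_cases hU : U = ⊥
  · obtain ⟨V, hVn, hKV, hVc⟩ := BGSummary.exists_invariant_compl hG h hM hKU
      (by rw [hd, hU, bot_sup_eq])
    exact ⟨V, BGSummary.typePWith_of_compl hG h hM hKU hK hVn hKV hVc⟩
  · have hF := BGSummary.fittingHallOf_eq_sigma h hM hKU hU
    obtain ⟨hab, -⟩ := h.complement_abelian M hM K U hKU hK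
    have hn : Group.IsNilpotent U := by
      haveI := hab
      open scoped IsMulCommutative in exact CommGroup.isNilpotent
    refine ⟨U, BGSummary.typePWith_of_compl hG h hM hKU hK hn hKU.normal ?_⟩
    rw [hF, hd]
    refine BGSummary.TypeCore.complIn_of_sup le_sup_right le_sup_left
      (hKU.compl.1.trans (BGSigma.le_normalizer_sigmaCore M)) ?_ (sup_comm _ _).le
    rw [inf_comm]
    exact BGSummary.inf_eq_bot hKU

/-- A maximal subgroup with type `P` data has `κ ≠ ∅`. -/
theorem kappa_nonempty {S W₁ U W₂ : Subgroup G} (hS : IsCoatom S)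
    (hP : IsTypePWith S W₁ U W₂) : (kappa S).Nonempty := by
  obtain ⟨K, U₀, hKU⟩ := exists_decomp hG hS
  have hK := BGSummary.typeP_conv hG (typeInputs hG) hS hKU hP
  exact Set.nonempty_iff_ne_empty.mpr fun he => hK ((BGSummary.eq_bot_iff_kappa hKU.hall).mpr he)

/-- `W₁` is a `κ`-Hall subgroup. -/
theorem kappa_hall {S W₁ U W₂ : Subgroup G} (hS : IsCoatom S)
    (hP : IsTypePWith S W₁ U W₂) : IsPiHallOf (kappa S) W₁ S := by
  have h := typeInputs hG
  obtain ⟨K, U₀, hKU⟩ := exists_decomp hG hS
  have hK := BGSummary.typeP_conv hG h hS hKU hP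
  have hn : S ≤ Subgroup.normalizer ((⁅S, S⁆ : Subgroup G) : Set G) :=
    BGSummary.commutator_normal hG h
  have hcard : Nat.card W₁ = Nat.card K :=
    (BGSummary.card_eq_of_complIn hP.W₁_compl hn).symm.trans
      (BGSummary.card_eq_of_complIn (complIn_derived hG hS hKU hK) hn)
  have hW := hP.W₁_compl.2.1
  have hidx : W₁.relIndex S = K.relIndex S := by
    have h1 : Nat.card W₁ * W₁.relIndex S = Nat.card K * K.relIndex S := by
      rw [← Subgroup.relIndex_bot_left, ← Subgroup.relIndex_bot_left,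
        Subgroup.relIndex_mul_relIndex _ _ _ bot_le hW,
        Subgroup.relIndex_mul_relIndex _ _ _ bot_le hKU.hall.1]
    rw [hcard] at h1
    exact Nat.eq_of_mul_eq_mul_left Nat.card_pos h1
  exact ⟨hW, fun p hp hd => hKU.hall.2.1 p hp (hcard ▸ hd),
    fun p hp hk => hidx ▸ hKU.hall.2.2 p hp hk⟩

/-- `W₁` occurs in a standard factorisation. -/
theorem exists_decomp_of_typeP {S W₁ U W₂ : Subgroup G} (hS : IsCoatom S)
    (hP : IsTypePWith S W₁ U W₂) : ∃ U₀ : Subgroup G, IsSigmaDecomposition S W₁ U₀ :=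
  ((typeInputs hG).decomp S hS W₁ hP.W₁_cyclic (kappa_hall hG hS hP)).1

/-- `W₂` is the centralizer of `W₁` in `M_σ`. -/
theorem W₂_eq {S W₁ U W₂ : Subgroup G} (hS : IsCoatom S) (hP : IsTypePWith S W₁ U W₂) :
    W₂ = sigmaCore S ⊓ Subgroup.centralizer (W₁ : Set G) := by
  obtain ⟨-, hFσ, hσd, -, -⟩ := (typeInputs hG).fitting_core S hS
  obtain ⟨-, -, -, hcomm, -, -⟩ := hP.selfNormalizing
  refine le_antisymm (le_inf ((hP.W₂_le.trans inf_le_left).trans hFσ) fun w hw => ?_) fun c hc => ?_
  · exact Subgroup.mem_centralizer_iff.mpr fun a ha => hcomm a ha w hw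
  · obtain ⟨x, hx, hx1⟩ := (Subgroup.bot_or_exists_ne_one W₁).resolve_left hP.W₁_ne
    rw [← hP.W₂_centralizer x hx hx1]
    exact ⟨hσd hc.1, Subgroup.mem_centralizer_singleton_iff.mpr
      (Subgroup.mem_centralizer_iff.mp hc.2 x hx).symm⟩

end Cfsg.Agent.FT
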